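import Cfsg.Agent.R2.T1.Inf.Aut

/-!
# S5771, big2 (helper11): the order of `H` divides `n!`

* `exists_emb` : `H` embeds in `S_n`;
* `card_dvd` : `|H|` divides `n!`;
* `not_dvd`, `card_lt` : `2 ^ 27` does not divide `|H|`, and `4 |H| < q ^ 76`, for `7 ≤ n ≤ 22`.
-/

set_option autoImplicit false

namespace Cfsg.Agent.R2.T1.B2

open Cfsg Cfsg.Lie Module Equiv Equiv.Perm
open Cfsg.Agent.H952.F4 (MaxAlt)
open Cfsg.Agent.R2.T1

universe u

variable {F : Type u} [Field F] [Finite F] {H : Subgroup ↥(chevE7.group F)} {n : ℕ}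
  {φ : ↥(alternatingGroup (Fin n)) →* ↥(chevE7.group F)}

/-- **`H` embeds in `S_n`** -/
theorem exists_emb (hn : 7 ≤ n) (hM : MaxAlt H n φ) : ∃ f : ↥H →* Perm (Fin n), Function.Injective f := by
  have hex : ∀ (h : ↥H) (a : ↥(alternatingGroup (Fin n))), ∃ b, φ b = (h : ↥(chevE7.group F)) * φ a * (h : ↥(chevE7.group F))⁻¹ :=
    fun h a => hM.norm h h.2 _ ⟨a, rfl⟩
  choose f hf using hex
  have fmul : ∀ g h a, f (g * h) a = f g (f h a) := by
    intro g h a
    apply hM.inj
    rw [hf, hf, hf, Subgroup.coe_mul]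
    group
  have fone : ∀ a, f 1 a = a := by
    intro a
    apply hM.inj
    rw [hf, Subgroup.coe_one, one_mul, inv_one, mul_one]
  let e : ↥H →* MulAut ↥(alternatingGroup (Fin n)) := MonoidHom.mk' (fun h =>
    { toFun := f h
      invFun := f h⁻¹
      left_inv := fun a => by rw [← fmul, inv_mul_cancel, fone]
      right_inv := fun a => by rw [← fmul, mul_inv_cancel, fone]
      map_mul' := fun a b => by
        apply hM.inj
        rw [hf, map_mul, map_mul, hf, hf]
        group }) (fun g h => by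
    ext1 a
    exact fmul g h a)
  obtain ⟨ψ, hψ⟩ := Cfsg.Agent.StandardComponent.AltAut.exists_autHom n hn
  refine ⟨ψ.comp e, (injective_iff_map_eq_one _).2 fun h hh => ?_⟩
  have h1 : ψ (e h) = 1 := hh
  apply Subtype.ext
  apply centralizer_eq hM (by omega)
  intro a
  have h2 : f h a = a := by
    apply Subtype.ext
    have h3 := hψ (e h) a
    rw [h1, one_mul, inv_one, mul_one] at h3
    exact h3
  have h4 := hf h a
  rw [h2] at h4
  rw [h4, mul_assoc, inv_mul_cancel, mul_one, ← h4]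

theorem card_dvd (hn : 7 ≤ n) (hM : MaxAlt H n φ) : Nat.card ↥H ∣ n.factorial := by
  obtain ⟨f, hf⟩ := exists_emb hn hM
  have h1 := Subgroup.card_dvd_of_injective f hf
  rwa [Nat.card_eq_fintype_card (α := Perm (Fin n)), Fintype.card_perm, Fintype.card_fin] at h1

theorem not_dvd (hn : 7 ≤ n) (hn' : n ≤ 22) (hM : MaxAlt H n φ) : ¬ 2 ^ 27 ∣ Nat.card ↥H := by
  intro h
  have h1 := (h.trans (card_dvd hn hM)).trans (Nat.factorial_dvd_factorial hn')
  exact absurd h1 (by decide +kernel)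

theorem card_lt (hn : 7 ≤ n) (hn' : n ≤ 22) (hM : MaxAlt H n φ) : 4 * Nat.card ↥H < Nat.card F ^ 76 := by
  have h1 : Nat.card ↥H ≤ Nat.factorial 22 :=
    Nat.le_of_dvd (Nat.factorial_pos 22) ((card_dvd hn hM).trans (Nat.factorial_dvd_factorial hn'))
  have h2 : 2 ^ 76 ≤ Nat.card F ^ 76 := Nat.pow_le_pow_left Finite.one_lt_card 76
  have h3 : 4 * Nat.factorial 22 < 2 ^ 76 := by decide +kernel
  omega

end Cfsg.Agent.R2.T1.B2
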