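import Mathlib
import Cfsg.Agent.H952.F4.Scott
import Cfsg.Agent.H952.F4.Gen
import Cfsg.Agent.R2.T1.Inf.Form
import Cfsg.Agent.R2.T1.Inf.Cnt

/-!
# S5771, big2 (helper11): pattern T2 for `n = 9`

* `gen9b` : `A_9` is generated by elements `x` of type `3²`, `y` of type `7` with `x y` of type `7`;
* `noT2_9` : `(3², 7) = (32, 20)` is impossible for `n = 9` (Scott).
-/

set_option autoImplicit false

namespace Cfsg.Agent.R2.T1.B2

open Cfsg Cfsg.Lie Module Equiv Equiv.Perm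
open Cfsg.Agent.H943.E7V.Block (D1)
open Cfsg.Agent.H952.F4 (ev es GenT MaxAlt)
open Cfsg.Agent.H952.F4.Scott (scott_form)
open Cfsg.Agent.R2.T1

universe u

theorem gen9b : GenT 9 {3, 3} {7} {7} :=
  Cfsg.Agent.H952.F4.Gen.genT_of (n := 7) (c[0, 2, 5] * c[3, 7, 6]) (c[1, 6, 7, 3, 2, 4, 8]) (by decide +kernel)
    (by decide +kernel)
    ![[],
    [],
    [2, 2, 1, 3, 0, 3, 0, 3, 0, 2, 1, 3],
    [1, 2, 0, 3, 3, 0, 2, 2, 0, 3, 1],
    [2, 2, 1, 2, 0, 3, 1, 3, 3, 0, 2],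
    [3, 0, 2, 1, 3, 1, 2, 1, 3, 0, 2],
    [0, 2, 1, 2, 1, 3, 0, 3, 0, 3],
    [2, 1, 2, 2, 0, 2, 1, 3, 0, 2, 2, 2],
    [1, 2, 1, 2, 0, 3, 0, 3, 1, 2]]
    (by decide +kernel) (by decide +kernel) (by decide +kernel) (by decide +kernel)

/-- **pattern T2 is impossible for `n = 9`** -/
theorem noT2_9 {F : Type u} [Field F] [Finite F] {H : Subgroup ↥(chevE7.group F)}
    {φ : ↥(alternatingGroup (Fin 9)) →* ↥(chevE7.group F)} (hM : MaxAlt H 9 φ)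
    {ψ : ↥(alternatingGroup (Fin 9)) →* Gh F} (hψ : Lift φ ψ)
    (h33 : ∀ a : ↥(alternatingGroup (Fin 9)), (a : Perm (Fin 9)).cycleType = {3, 3} → ev (V F (ψ a)) 1 = 32)
    (h7 : ∀ a : ↥(alternatingGroup (Fin 9)), (a : Perm (Fin 9)).cycleType = {7} → ev (V F (ψ a)) 1 = 20) : False := by
  obtain ⟨a, b, hgen, ha, hb, hab⟩ := gen9b
  have hs := scott_form (V := D1 → F) (MonoidHom.comp (V F) ψ) hgen (sf F) (fun v hv => sf_nondeg' hv)
    (fun g v w => sf_V (ψ g) v w)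
  have e1 : ev ((MonoidHom.comp (V F) ψ) a) 1 = 32 := h33 a ha
  have e2 : ev ((MonoidHom.comp (V F) ψ) b) 1 = 20 := h7 b hb
  have e3 : ev ((MonoidHom.comp (V F) ψ) (a * b)) 1 = 20 := h7 (a * b) hab
  rw [e1, e2, e3, finrank_V, no_fixed hM (by norm_num) (by norm_num) hψ, finrank_bot] at hs
  omega

end Cfsg.Agent.R2.T1.B2
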